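import Groth.Agent.Lib.Depth.CM
import Groth.Agent.Lib.FEtEq25.DepthTwo
import Groth.Agent.Lib.CatenarySch12.Basic
import Groth.Prelude.Def_SGA2
import Groth.Prelude.Def_CAlg
import Groth.Prelude.Def_Found

/-!
# Relative codimension under a flat map from a Cohen–Macaulay ring to a catenary ring
-/

universe u

open Order IsLocalRing

namespace Groth.Agent.DeltaFib27

open Groth.Agent.PtSet

theorem height_Ici_le {α : Type*} [PartialOrder α] {a q : α} (h : a ≤ q) :
    height (⟨q, h⟩ : Set.Ici a) ≤ codimO a q := by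
  refine height_le fun p hp => ?_
  let s : LTSeries α := p.map Subtype.val (fun _ _ h => h)
  have hlast : s.last ≤ q := by simp [s, hp]
  rcases eq_or_lt_of_le (show a ≤ s.head from le_of_le_of_eq p.head.2 (by simp [s])) with e | e
  · exact le_codimO (s := s) e.symm hlast
  · refine le_trans ?_ (le_codimO (s := s.cons a e) (by simp) (by simpa using hlast))
    simp [s]

theorem codimO_le_height {α : Type*} [PartialOrder α] (a q : α) : codimO a q ≤ height q :=
  iSup₂_le fun _ hs => length_le_height hs.2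

theorem codimO_le_height_Ici {α : Type*} [PartialOrder α] {a q : α} (h : a ≤ q) :
    codimO a q ≤ height (⟨q, h⟩ : Set.Ici a) := by
  refine iSup₂_le fun s hs => ?_
  let t : LTSeries (Set.Ici a) := ⟨s.length, fun i => ⟨s i, hs.1 ▸ LTSeries.head_le s i⟩, s.step⟩
  exact length_le_height (p := t) (show s.last ≤ q from hs.2)

theorem height_add_codimO_le {α : Type*} [PartialOrder α] {a q : α} (h : a ≤ q) (hq : height q ≠ ⊤) :
    height a + codimO a q ≤ height q := by
  obtain ⟨n, hn⟩ := ENat.ne_top_iff_exists.1 (ne_top_of_le_ne_top hq (height_mono h))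
  obtain ⟨l, hl1, hl2⟩ := exists_series_of_height_eq_coe a hn.symm
  obtain ⟨s, s1, s2, -, s3⟩ := exists_maximal_series h (ne_top_of_le_ne_top hq (codimO_le_height a q))
  refine le_of_eq_of_le ?_ (length_le_height (p := l.smash s (hl1.trans s1.symm)) (by simp [s2]))
  rw [← hn, ← s3, ← hl2]
  exact (Nat.cast_add _ _).symm

variable {A A' : Type u} [CommRing A] [CommRing A'] [IsNoetherianRing A] [IsNoetherianRing A'] [Algebra A A']

theorem height_comap_le_codimO (hcm : LocCoh.IsCohenMacaulayRing A) [Module.Flat A A']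
    (s' q' : PrimeSpectrum A') (hsq : s' ≤ q') :
    ∃ P : PrimeSpectrum A', P ≤ s' ∧ (q'.asIdeal.comap (algebraMap A A')).height ≤ codimO P q' := by
  let q : Ideal A := q'.asIdeal.comap (algebraMap A A')
  let R' := Localization.AtPrime q'.asIdeal
  let ψ := Localization.localRingHom q q'.asIdeal (algebraMap A A') rfl
  haveI : IsLocalHom ψ := Localization.isLocalHom_localRingHom _ _ _ _
  have hψ : ψ.Flat := RingHom.Flat.localRingHom (RingHom.flat_algebraMap_iff.2 ‹_›) _ _ _
  have hdepth := FEtEq25.depth_le_of_flat_local ψ hψ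
  have hA : ((LocCoh.depth (Localization.AtPrime q) (Localization.AtPrime q) : ℕ∞) : WithBot ℕ∞) =
      (q.height : WithBot ℕ∞) := by
    haveI := hcm.isCohenMacaulayLocalRing_localization q
    rw [← IsLocalization.AtPrime.ringKrullDim_eq_height q (Localization.AtPrime q),
      ← Module.supportDim_self_eq_ringKrullDim]
    exact LocCoh.IsCohenMacaulayLocalRing.supportDim_eq_depth.symm
  have hdis : Disjoint (q'.asIdeal.primeCompl : Set A') (s'.asIdeal : Set A') :=
    Set.disjoint_left.2 fun _ h1 h2 => h1 (hsq h2)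
  let J := s'.asIdeal.map (algebraMap A' R')
  haveI : J.IsPrime := IsLocalization.isPrime_of_isPrime_disjoint q'.asIdeal.primeCompl R' _ s'.isPrime hdis
  have hJ : J.comap (algebraMap A' R') = s'.asIdeal :=
    IsLocalization.comap_map_of_isPrime_disjoint q'.asIdeal.primeCompl R' s'.isPrime hdis
  obtain ⟨P', hP', hP'J⟩ := Ideal.exists_minimalPrimes_le (bot_le : ⊥ ≤ J)
  haveI := hP'.1.1
  have hass : P' ∈ associatedPrimes R' R' := by
    refine Module.associatedPrimes.minimalPrimes_annihilator_subset_associatedPrimes R' R' ?_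
    rwa [Module.annihilator_eq_bot.2 inferInstance]
  have h1 := DepthLib.depth_le_of_mem_associatedPrimes (R := R') (M := R') hass
  let c : PrimeSpectrum R' → PrimeSpectrum A' := PrimeSpectrum.comap (algebraMap A' R')
  let P : PrimeSpectrum A' := c ⟨P', inferInstance⟩
  have hPs : P ≤ s' := by
    show P'.comap (algebraMap A' R') ≤ s'.asIdeal
    rw [← hJ]
    exact Ideal.comap_mono hP'J
  refine ⟨P, hPs, ?_⟩
  have hc : ∀ z : PrimeSpectrum R', c z ≤ q' := fun z => by
    show z.asIdeal.comap (algebraMap A' R') ≤ q'.asIdeal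
    exact le_of_le_of_eq (Ideal.comap_mono (IsLocalRing.le_maximalIdeal z.isPrime.ne_top))
      Localization.AtPrime.comap_maximalIdeal
  have hcm' : StrictMono c := Monotone.strictMono_of_injective (fun _ _ h => Ideal.comap_mono h)
    (PrimeSpectrum.localization_comap_injective R' q'.asIdeal.primeCompl)
  have h2 : ringKrullDim (R' ⧸ P') ≤ (codimO P q' : WithBot ℕ∞) := by
    rw [ringKrullDim_quotient]
    refine le_trans (Order.krullDim_le_of_strictMono
      (fun z : PrimeSpectrum.zeroLocus (P' : Set R') =>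
        (⟨⟨c z.1, Ideal.comap_mono z.2⟩, hc z.1⟩ : Set.Iic (⟨q', hPs.trans hsq⟩ : Set.Ici P))) ?_) ?_
    · exact fun _ _ h => hcm' h
    · rw [← height_eq_krullDim_Iic]
      exact WithBot.coe_le_coe.2 (height_Ici_le _)
  refine WithBot.coe_le_coe.1 (le_trans ?_ h2)
  rw [← hA]
  exact le_trans (WithBot.coe_le_coe.2 hdepth) h1

/-- The inequality between relative codimensions. -/
theorem relCodim_le_add (hcm : LocCoh.IsCohenMacaulayRing A) (hcat : CAlg.IsCatenary A') [Module.Flat A A']
    (I : Ideal A) (I' : Ideal A')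
    (hTT : ∀ q : PrimeSpectrum A', I' ≤ q.asIdeal → I ≤ q.asIdeal.comap (algebraMap A A'))
    (s : PrimeSpectrum A) (s' : PrimeSpectrum A') (hs : s'.asIdeal.comap (algebraMap A A') = s.asIdeal)
    (a b : ℕ) (ha : SGA2.relCodim I s = a) (hb : SGA2.relCodim I' s' = b) :
    (a : ℕ∞) ≤ (b : ℕ∞) + (s'.asIdeal.map (Ideal.Quotient.mk (s.asIdeal.map (algebraMap A A')))).height := by
  rw [SGA2.relCodim] at hb
  haveI : Nonempty {q : PrimeSpectrum A' // s' ≤ q ∧ I' ≤ q.asIdeal} := by
    by_contra hne
    rw [not_nonempty_iff] at hne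
    rw [iInf_of_empty] at hb
    exact ENat.natCast_ne_top b hb.symm
  obtain ⟨⟨q', hq1, hq2⟩, hq'⟩ := ENat.exists_eq_iInf
    (fun q : {q : PrimeSpectrum A' // s' ≤ q ∧ I' ≤ q.asIdeal} => height (⟨q.1, q.2.1⟩ : Set.Ici s'))
  rw [hb] at hq'
  let q : PrimeSpectrum A := PrimeSpectrum.comap (algebraMap A A') q'
  have hsq : s ≤ q := by
    show s.asIdeal ≤ q'.asIdeal.comap (algebraMap A A')
    rw [← hs]
    exact Ideal.comap_mono hq1
  have haq : (a : ℕ∞) ≤ codimO s q := by
    rw [← ha]
    exact (iInf_le _ (⟨q, hsq, hTT q' hq2⟩ : {p : PrimeSpectrum A // s ≤ p ∧ I ≤ p.asIdeal})).trans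
      (height_Ici_le hsq)
  have hqfin : height q ≠ ⊤ := by
    rw [← PrimeSpectrum.height_eq_orderHeight]
    exact Ideal.height_ne_top q.isPrime.ne_top
  obtain ⟨P, hP, hle⟩ := height_comap_le_codimO hcm s' q' hq1
  have hadd := (isCatenaryOrder_iff.1 ((CatenarySch12.isCatenary_iff_order A').1 hcat)).2 P s' q' hP hq1
  have hb' : codimO s' q' ≤ (b : ℕ∞) := le_of_le_of_eq (codimO_le_height_Ici hq1) hq'
  haveI : Algebra.HasGoingDown A A' := Algebra.HasGoingDown.of_flat
  haveI : s'.asIdeal.LiesOver s.asIdeal := ⟨hs.symm⟩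
  have hsplit := Ideal.height_eq_height_add_of_liesOver_of_hasGoingDown s.asIdeal s'.asIdeal
  have key : s.asIdeal.height + (a : ℕ∞) ≤ s.asIdeal.height +
      ((b : ℕ∞) + (s'.asIdeal.map (Ideal.Quotient.mk (s.asIdeal.map (algebraMap A A')))).height) := by
    rw [add_comm (b : ℕ∞), ← add_assoc, ← hsplit, PrimeSpectrum.height_eq_orderHeight,
      PrimeSpectrum.height_eq_orderHeight]
    refine le_trans (add_le_add le_rfl haq) (le_trans (height_add_codimO_le hsq hqfin) ?_)
    rw [← PrimeSpectrum.height_eq_orderHeight]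
    refine le_trans hle ?_
    rw [hadd]
    exact add_le_add (codimO_le_height P s') hb'
  exact (ENat.add_le_add_iff_left (Ideal.height_ne_top s.isPrime.ne_top)).1 key

end Groth.Agent.DeltaFib27
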