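import Groth.Agent.Lib.FibDim14.BaseChange

/-!
# Residual degrees and fibre dimensions under base change
-/

universe u

open CategoryTheory Limits AlgebraicGeometry Order Topology

set_option backward.isDefEq.respectTransparency.types false

namespace Groth.Agent.DeltaFib27

open Groth.Agent.VarDim Groth.Agent.FibDim14

/-- The codimension does not increase along a flat morphism. -/
theorem coheight_apply_le {Z F : Scheme.{u}} (π : Z ⟶ F) [Flat π] (z : Z) :
    coheight (π z) ≤ coheight z := by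
  rcases eq_or_ne (coheight z) ⊤ with h | h
  · simp [h]
  obtain ⟨n, hn⟩ := ENat.ne_top_iff_exists.1 h
  rw [← hn]
  clear h
  induction n using Nat.strong_induction_on generalizing z with
  | _ n ih =>
    rw [coheight_le_coe_iff]
    intro y hy
    obtain ⟨hsp, hne⟩ := lt_iff_specializes_and_ne.1 hy
    obtain ⟨w, hw, rfl⟩ := DimF18.exists_lift_specializes π hsp
    have hzw : z < w := lt_iff_specializes_and_ne.2 ⟨hw, fun e => hne (by rw [e])⟩
    have hlt : coheight w < (n : ℕ∞) := (coheight_le_coe_iff.1 hn.ge) w hzw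
    obtain ⟨m, hm⟩ := ENat.ne_top_iff_exists.1 hlt.ne_top
    rw [← hm] at hlt
    exact lt_of_le_of_lt (ih m (by exact_mod_cast hlt) w hm) hlt

variable {k : Type u} [Field k] {Y Z : Scheme.{u}} (q : Y ⟶ Spec (CommRingCat.of k)) [LocallyOfFiniteType q]

/-- A strictly monotone map on an interval raises the codimension by at least the drop of dimension. -/
theorem coheight_add_sdim_le (m y : Y) (φ : ∀ v : Y, m ⤳ v → v ⤳ y → Z)
    (hφ : ∀ v w (h1 : m ⤳ v) (h2 : v ⤳ y) (h3 : m ⤳ w) (h4 : w ⤳ y), w ⤳ v → v ≠ w → φ v h1 h2 < φ w h3 h4) :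
    ∀ (v : Y) (h1 : m ⤳ v) (h2 : v ⤳ y),
      coheight (φ m specializes_rfl (h1.trans h2)) + ((sdim q m - sdim q v : ℕ) : ℕ∞) ≤ coheight (φ v h1 h2) := by
  intro v
  induction hn : sdim q m - sdim q v using Nat.strong_induction_on generalizing v with
  | _ n ih =>
    intro h1 h2
    classical
    by_cases he : m = v
    · subst he
      simp [← hn]
    let P : ℕ → Prop := fun d => ∃ w, m ⤳ w ∧ w ⤳ v ∧ w ≠ v ∧ sdim q w = d
    have hP : ∃ d, P d := ⟨_, m, specializes_rfl, h1, he, rfl⟩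
    obtain ⟨w, hw1, hw2, hwne, hwd⟩ := Nat.find_spec hP
    have hstep : sdim q w = sdim q v + 1 := by
      refine DimF18.sdim_covBy q hwne hw2 fun u hu1 hu2 => ?_
      by_contra hu
      push Not at hu
      have := Nat.find_min' hP (m := sdim q u) ⟨u, hw1.trans hu1, hu2, hu.2, rfl⟩
      have := sdim_lt_of_specializes q hu1 (fun e => hu.1 e.symm)
      omega
    have hmv : sdim q w ≤ sdim q m := by
      by_cases e : m = w
      · rw [e]
      · exact (sdim_lt_of_specializes q hw1 e).le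
    have := ih (sdim q m - sdim q w) (by omega) w rfl hw1 (hw2.trans h2)
    have h5 := coheight_add_one_le (hφ v w h1 h2 hw1 (hw2.trans h2) hw2 (Ne.symm hwne))
    refine le_trans ?_ h5
    refine le_trans ?_ (add_le_add this le_rfl)
    rw [add_assoc, show n = (sdim q m - sdim q w) + 1 by omega, Nat.cast_add, Nat.cast_one]

section

variable {X S X' S' : Scheme.{u}} {f : X ⟶ S} {g : S' ⟶ S} {g' : X' ⟶ X} {f' : X' ⟶ S'}
  [LocallyOfFiniteType f] [LocallyOfFiniteType f']

theorem coheight_add_rd_le (hsq : IsPullback g' f' f g) (x' : X') (t : g.fiber (f (g' x')))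
    (ht : g.fiberι _ t = f' x') :
    coheight t + (rd f (g' x') : ℕ∞) ≤ coheight (g'.asFiber x') + (rd f' x' : ℕ∞) := by
  obtain ⟨pr, hpr, sq⟩ := exists_fibre_square hsq (f' x')
  obtain ⟨π, hπ, sq'⟩ := exists_fibre_square hsq.flip (g' x')
  haveI : Flat π := MorphismProperty.of_isPullback sq'.flip inferInstance
  let y := f'.asFiber x'
  obtain ⟨m, hm, hprm, hdm⟩ := DimF18.exists_sdim_eq sq y
  have hy : f.fiberι _ (pr y) = g' x' := by rw [hpr, f'.fiberι_asFiber]
  have hdm' : sdim (toPt f' (f' x')) m = rd f (g' x') := by rw [hdm, ← rd_fiberι, hy]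
  have hdy : sdim (toPt f' (f' x')) y = rd f' x' := by rw [← rd_fiberι, f'.fiberι_asFiber]
  have hmem : ∀ v, m ⤳ v → v ⤳ y → g' (f'.fiberι _ v) = g' x' := fun v h1 h2 => by
    rw [← hpr, ← hy]
    exact congrArg _ ((h2.map pr.continuous).antisymm (hprm ▸ h1.map pr.continuous)).eq
  let φ : ∀ v, m ⤳ v → v ⤳ y → g'.fiber (g' x') := fun v h1 h2 =>
    (g'.fiberHomeo (g' x')).symm ⟨f'.fiberι _ v, hmem v h1 h2⟩
  have hφι : ∀ v h1 h2, g'.fiberι _ (φ v h1 h2) = f'.fiberι _ v := fun v h1 h2 =>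
    g'.fiberι_fiberHomeo_symm _ _
  have hφ : ∀ v w (h1 : m ⤳ v) (h2 : v ⤳ y) (h3 : m ⤳ w) (h4 : w ⤳ y), w ⤳ v → v ≠ w →
      φ v h1 h2 < φ w h3 h4 := by
    intro v w h1 h2 h3 h4 h5 h6
    refine lt_iff_specializes_and_ne.2 ⟨?_, fun e => h6 ((f'.fiberι _).isEmbedding.injective ?_)⟩
    · rw [← (g'.fiberι _).isEmbedding.isInducing.specializes_iff, hφι v h1 h2, hφι w h3 h4]
      exact h5.map (f'.fiberι _).continuous
    · rw [← hφι v h1 h2, ← hφι w h3 h4, e]
  have key := coheight_add_sdim_le (toPt f' (f' x')) m y φ hφ y hm specializes_rfl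
  have hφy : φ y hm specializes_rfl = g'.asFiber x' := (g'.fiberι _).isEmbedding.injective (by
    rw [hφι y hm specializes_rfl, f'.fiberι_asFiber, g'.fiberι_asFiber])
  rw [hφy, hdm', hdy] at key
  have hπm : π (φ m specializes_rfl (hm.trans specializes_rfl)) = t := (g.fiberι _).isEmbedding.injective (by
    rw [hπ, hφι m specializes_rfl (hm.trans specializes_rfl), ht]
    have hr : f'.fiberι (f' x') m ∈ Set.range (f'.fiberι (f' x')) := ⟨m, rfl⟩
    rwa [f'.range_fiberι] at hr)
  have h1 := coheight_apply_le π (φ m specializes_rfl (hm.trans specializes_rfl))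
  rw [hπm] at h1
  refine le_trans (add_le_add (le_refl (coheight t))
    (Nat.cast_le.2 (show rd f (g' x') ≤ (rd f (g' x') - rd f' x') + rd f' x' by omega))) ?_
  rw [Nat.cast_add, ← add_assoc]
  exact add_le_add ((add_le_add h1 le_rfl).trans key) le_rfl

end

end Groth.Agent.DeltaFib27
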